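import Groth.Agent.L29.DCoh.RpushAffine
import Groth.Agent.L29.DCoh.Gen.Amp
import Groth.Agent.L29.DCoh.Gen.Loc
import Groth.Agent.L29.DCoh.Cpt.QCoh

/-!
Affine direct images detect bounds from above on quasi-coherent cohomology.
-/

set_option autoImplicit false
set_option backward.defeqAttrib.useBackward true
set_option backward.isDefEq.respectTransparency false
set_option backward.isDefEq.respectTransparency.types false

universe u

open CategoryTheory CategoryTheory.Limits CategoryTheory.Pretriangulated AlgebraicGeometry DerivedCategory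

attribute [local instance] HasDerivedCategory.standard

namespace Groth.Lead.BddAdj

open Groth.L29.DC

variable {X S : Scheme.{u}}

local notation "tt" => DerivedCategory.TStructure.t

/-- affine direct images preserve bounds from above -/
theorem isLE_Rpush_affine (f : X ⟶ S) [IsAffineHom f] [DCoh.HasRpush f] (E : DCoh.D X) (hE : DCoh.IsQCohD E)
    (m : ℤ) (hm : E.IsLE m) : ((DCoh.Rpush f).obj E).IsLE m := by
  haveI : HasInjectiveResolutions X.Modules := Groth.L17.PushQCoh.hasInjectiveResolutions X
  letI := Gen.commShiftRpush f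
  haveI : (DerivedCategory.TStructure.t (C := X.Modules)).IsLE E m := hm
  have h0 : DerivedCategory.IsLE (E⟦m⟧) 0 := (DerivedCategory.TStructure.t (C := X.Modules)).isLE_shift E m m 0 (by omega)
  have hF : ((DCoh.Rpush f).obj (E⟦m⟧)).IsLE 0 := (DerivedCategory.isLE_iff _ _).2 fun i hi =>
    RpushQC.isZero_HD_Rpush f 1 (fun M hM p hp => RpushQC.isZero_Rpush_affine f M hM p (by omega)) _
      (Gen.isQCohD_shift hE m) h0 i (by omega)
  haveI : (DerivedCategory.TStructure.t (C := S.Modules)).IsLE (((DCoh.Rpush f).obj E)⟦m⟧) 0 :=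
    haveI : (DerivedCategory.TStructure.t (C := S.Modules)).IsLE ((shiftFunctor (DCoh.D X) m ⋙ DCoh.Rpush f).obj E) 0 := hF
    (DerivedCategory.TStructure.t (C := S.Modules)).isLE_of_iso (((DCoh.Rpush f).commShiftIso m).app E) _
  exact (DerivedCategory.TStructure.t (C := S.Modules)).isLE_of_shift _ m m 0 (by omega)

/-- the upper truncation keeps quasi-coherent cohomology -/
theorem isQCohD_truncGE {C : DCoh.D X} (hC : DCoh.IsQCohD C) (b : ℤ) :
    DCoh.IsQCohD (((tt).truncGE b).obj C) := fun i => by
  by_cases hi : i < b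
  · exact isQCoh_of_isZero (Groth.L10.isZero_H_GE b i hi C)
  · have := Groth.L10.isIso_H_π b i (by omega) C
    exact isQCoh_of_iso' (asIso ((homologyFunctor X.Modules i).map (((tt).truncGEπ b).app C))) (hC i)

/-- affine direct images detect bounds from above -/
theorem isLE_of_Rpush_affine (f : X ⟶ S) [IsAffineHom f] [DCoh.HasRpush f] (C : DCoh.D X) (hC : DCoh.IsQCohD C)
    (b : ℤ) (hb : ((DCoh.Rpush f).obj C).IsLE b) : C.IsLE b := by
  letI := Gen.commShiftRpush f
  haveI := Gen.isTriangulated_Rpush f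
  let t := DerivedCategory.TStructure.t (C := X.Modules)
  let s := DerivedCategory.TStructure.t (C := S.Modules)
  let L := (t.truncLT (b + 1)).obj C
  let R := (t.truncGE (b + 1)).obj C
  have hLle : s.IsLE ((DCoh.Rpush f).obj L) b :=
    isLE_Rpush_affine f L (Cpt.isQCohD_truncLT hC _) b (t.isLE_truncLT_obj _ _ _ (by omega))
  have hRge : s.IsGE ((DCoh.Rpush f).obj R) (b + 1) :=
    haveI : R.IsGE (b + 1) := t.isGE_truncGE_obj _ _ _ (by omega)
    RpushQC.isGE_Rpush f R _
  have hT := rot_of_distTriang _ ((DCoh.Rpush f).map_distinguished _ (t.triangleLTGE_distinguished (b + 1) C))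
  have h1 : s.IsLE (((DCoh.Rpush f).obj L)⟦(1 : ℤ)⟧) b :=
    haveI := hLle
    haveI := s.isLE_shift ((DCoh.Rpush f).obj L) b 1 (b - 1) (by omega)
    s.isLE_of_le _ (b - 1) b (by omega)
  have hR : s.IsLE ((DCoh.Rpush f).obj R) b := s.isLE₂ _ hT b hb h1
  have hz : IsZero ((DCoh.Rpush f).obj R) := s.isZero _ b (b + 1) (by omega)
  exact (t.isLE_iff_isZero_truncGE_obj b (b + 1) rfl C).2
    (RpushQC.isZero_of_isZero_Rpush f R (isQCohD_truncGE hC _) hz)

end Groth.Lead.BddAdj
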