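import Groth.Agent.Lead.BddAdj.Piece
import Groth.Agent.L29.DCoh.Gen.Support
import Groth.Agent.L10.ShriekLoc.OpenBC

/-!
Right adjoints stay bounded above under tor-independent base change.
-/

set_option autoImplicit false
set_option backward.defeqAttrib.useBackward true
set_option backward.isDefEq.respectTransparency false
set_option backward.isDefEq.respectTransparency.types false

universe u

open CategoryTheory CategoryTheory.Limits CategoryTheory.Pretriangulated AlgebraicGeometry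

attribute [local instance] HasDerivedCategory.standard

noncomputable section

namespace Groth.Lead.BddAdj

open Groth.L00 Groth.L29 Groth.L29.DC Groth.L10.ShriekLoc

variable {X Y X' Y' : Scheme.{u}}

set_option maxHeartbeats 3200000 in
/-- right adjoints stay bounded above under tor-independent base change -/
theorem exists_bound [CompactSpace X] [QuasiSeparatedSpace X] [CompactSpace Y] [QuasiSeparatedSpace Y]
    [CompactSpace X'] [QuasiSeparatedSpace X'] [CompactSpace Y'] [QuasiSeparatedSpace Y']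
    {f : X ⟶ Y} {g : Y' ⟶ Y} {f' : X' ⟶ Y'} {g' : X' ⟶ X} (hsq : IsPullback g' f' f g)
    [DCoh.HasRpush f] [DCoh.HasRpush f']
    (htor : ∀ (U : Y.Opens), IsAffineOpen U → ∀ (U' : Y'.Opens), IsAffineOpen U' → ∀ (hU' : U' ≤ g ⁻¹ᵁ U)
      (V : X.Opens), IsAffineOpen V → ∀ (hV : V ≤ f ⁻¹ᵁ U) (i : ℕ), 0 < i →
      Subsingleton (@DRing.Tor Γ(Y, U) _ i Γ(Y', U') Γ(X, V) _ (g.appLE U U' hU').hom.toModule _
        (f.appLE U V hV).hom.toModule))
    {hf : DCoh.RpushPreservesQCoh f} {hf' : DCoh.RpushPreservesQCoh f'}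
    {a : DCoh.DQCoh Y ⥤ DCoh.DQCoh X} {a' : DCoh.DQCoh Y' ⥤ DCoh.DQCoh X'}
    (adj : DCoh.RpushQ f hf ⊣ a) (adj' : DCoh.RpushQ f' hf' ⊣ a')
    (d : ℤ) (hbd : ∀ (K : DCoh.DQCoh Y) (n : ℤ), K.obj.IsLE n → (a.obj K).obj.IsLE (n + d)) :
    ∃ d' : ℤ, ∀ (K : DCoh.DQCoh Y') (n : ℤ), K.obj.IsLE n → (a'.obj K).obj.IsLE (n + d') := by
  haveI := fun {A B : Scheme.{u}} (k : A ⟶ B) => RpushQC.hasRpush k
  letI := Gen.commShiftRpush f'
  haveI := Gen.isTriangulated_Rpush f'
  haveI : (DCoh.RpushQ f' hf').IsTriangulated := by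
    refine ⟨fun T hT => ?_⟩
    exact isomorphic_distinguished _ ((ObjectProperty.ι DCoh.IsQCohD ⋙ DCoh.Rpush f').map_distinguished _ hT) _
      ((Functor.mapTriangleCompIso (DCoh.RpushQ f' hf') (ObjectProperty.ι DCoh.IsQCohD)).symm.app T ≪≫
        (Functor.mapTriangleIso (ObjectProperty.liftCompιIso DCoh.IsQCohD _ _)).app T)
  letI := adj'.rightAdjointCommShift ℤ
  haveI := adj'.commShift_of_leftAdjoint ℤ
  haveI := adj'.isTriangulated_rightAdjoint
  -- affine opens over affine opens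
  have hloc : ∀ y : Y', ∃ (U : Y'.Opens) (V : Y.Opens), y ∈ U ∧ IsAffineOpen U ∧ IsAffineOpen V ∧
      U ≤ g ⁻¹ᵁ V := by
    intro y
    obtain ⟨_, ⟨V, hV, rfl⟩, hyV, -⟩ :=
      Y.isBasis_affineOpens.exists_subset_of_mem_open (Set.mem_univ (g y)) isOpen_univ
    obtain ⟨_, ⟨U, hU, rfl⟩, hyU, hUV⟩ :=
      Y'.isBasis_affineOpens.exists_subset_of_mem_open (show y ∈ g ⁻¹ᵁ V from hyV) (g ⁻¹ᵁ V).2
    exact ⟨U, V, hyU, hU, hV, hUV⟩
  choose U V hyU hU hV hUV using hloc
  obtain ⟨s, hs⟩ := CompactSpace.elim_nhds_subcover (fun y => (U y : Set Y')) fun y => (U y).2.mem_nhds (hyU y)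
  have hq : ∀ y, DCoh.RpushPreservesQCoh (U y).ι := fun y => by
    haveI : CompactSpace (U y : Scheme.{u}) := isCompact_iff_compactSpace.1 (hU y).isCompact
    exact isQCohD_push (U y).ι
  suffices H : ∀ r : Finset Y', r ⊆ s → ∃ c : ℤ, ∀ (K : DCoh.DQCoh Y') (n : ℤ), K.obj.IsLE n →
      (∀ y ∈ s, y ∉ r → IsZero ((Gen.res (U y)).obj K.obj)) → (a'.obj K).obj.IsLE (n + c) by
    obtain ⟨c, hc⟩ := H s (Finset.Subset.refl s)
    exact ⟨c, fun K n hn => hc K n hn fun y hy hy' => absurd hy hy'⟩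
  let t := DerivedCategory.TStructure.t (C := X'.Modules)
  let tY := DerivedCategory.TStructure.t (C := Y'.Modules)
  intro r
  classical
  induction r using Finset.induction_on with
  | empty =>
    intro _
    refine ⟨0, fun K n _ hK => ?_⟩
    have hK0 : IsZero K.obj := Gen.isZero_of_cover fun x => by
      have hx : x ∈ ⋃ y ∈ s, (U y : Set Y') := hs.symm ▸ Set.mem_univ x
      simp only [Set.mem_iUnion] at hx
      obtain ⟨y, hy, hxy⟩ := hx
      exact ⟨U y, hxy, hK y hy (Finset.notMem_empty y)⟩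
    have hK0' : IsZero K := IsZero.of_full_of_faithful_of_isZero (ObjectProperty.ι DCoh.IsQCohD) K hK0
    exact t.isLE_of_isZero ((ObjectProperty.ι DCoh.IsQCohD).map_isZero (a'.map_isZero hK0')) _
  | insert i r hir ih =>
    intro hrs
    obtain ⟨c, hc⟩ := ih fun y hy => hrs (Finset.mem_insert_of_mem hy)
    haveI : CompactSpace (U i : Scheme.{u}) := isCompact_iff_compactSpace.1 (hU i).isCompact
    obtain ⟨c₀, hc₀⟩ := exists_piece hsq htor adj adj' d hbd (U i) (hU i) (V i) (hV i) (hUV i) (hq i)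
    obtain ⟨N, hN⟩ := Gen.exists_amp (U i).ι
    refine ⟨max c₀ ((N : ℤ) + c + 1), fun K n hn hK => ?_⟩
    let KU : DCoh.DQCoh (U i : Scheme.{u}) :=
      ⟨(Gen.res (U i)).obj K.obj, fun m => (isQCohD_restrictD (U i).ι K.property) m⟩
    let P := (DCoh.RpushQ (U i).ι (hq i)).obj KU
    let η : K ⟶ P := ObjectProperty.homMk ((Gen.adj (U i)).unit.app K.obj)
    obtain ⟨C, q, δ, hT⟩ := distinguished_cocone_triangle η
    have hTY := (ObjectProperty.ι DCoh.IsQCohD).map_distinguished _ hT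
    have hTX := (ObjectProperty.ι DCoh.IsQCohD).map_distinguished _ (a'.map_distinguished _ hT)
    have hKU : KU.obj.IsLE n := isLE_res _ _ _ hn
    have hP : tY.IsLE P.obj (n + N) := hN _ KU.property n hKU
    haveI : tY.IsLE K.obj n := hn
    haveI : tY.IsLE (K.obj⟦(1 : ℤ)⟧) (n - 1) := tY.isLE_shift K.obj n 1 (n - 1) (by omega)
    have hK1 : tY.IsLE (K.obj⟦(1 : ℤ)⟧) (n + N) := tY.isLE_of_le (K.obj⟦(1 : ℤ)⟧) (n - 1) (n + N) (by omega)
    have hC : C.obj.IsLE (n + N) := tY.isLE₂ _ (rot_of_distTriang _ hTY) (n + N) hP hK1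
    have hCz : ∀ y ∈ s, y ∉ r → IsZero ((Gen.res (U y)).obj C.obj) := by
      intro y hy hyr
      refine (Triangle.isZero₃_iff_isIso₁ _ ((Gen.res (U y)).map_distinguished _ hTY)).2 ?_
      by_cases hyi : y = i
      · subst hyi
        exact Gen.isIso_res_unit (U y) K.obj
      · have hz := hK y hy (by simp [hyr, hyi])
        exact isIso_of_source_target_iso_zero _ hz.isoZero
          (Gen.isZero_res_push_res (Gen.isZero_res_of_le inf_le_left hz)).isoZero
    have h1 : t.IsLE (a'.obj C).obj (n + N + c) := hc C _ hC hCz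
    haveI := h1
    haveI : t.IsLE ((a'.obj C).obj⟦(-1 : ℤ)⟧) (n + N + c + 1) :=
      t.isLE_shift _ (n + N + c) (-1) _ (by omega)
    haveI : t.IsLE (a'.obj P).obj (n + c₀) := hc₀ KU n hKU
    have hl : t.IsLE ((a'.obj C).obj⟦(-1 : ℤ)⟧) (n + max c₀ ((N : ℤ) + c + 1)) :=
      t.isLE_of_le _ (n + N + c + 1) _ (by omega)
    have hr : t.IsLE (a'.obj P).obj (n + max c₀ ((N : ℤ) + c + 1)) := t.isLE_of_le _ (n + c₀) _ (by omega)
    exact t.isLE₂ _ (inv_rot_of_distTriang _ hTX) _ hl hr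

end Groth.Lead.BddAdj
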