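import Groth.Agent.Lead.BddAdj.Affine
import Groth.Agent.Lead.ShriekIndep.Indep
import Groth.Agent.L29.BCAdj.AdjBC
import Groth.Agent.L29.BC.TorGlobal

/-!
Bounds from above for right adjoints on pieces of a tor-independent base change.
-/

set_option autoImplicit false
set_option backward.defeqAttrib.useBackward true
set_option backward.isDefEq.respectTransparency false
set_option backward.isDefEq.respectTransparency.types false

universe u

open CategoryTheory CategoryTheory.Limits CategoryTheory.Pretriangulated AlgebraicGeometry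

attribute [local instance] HasDerivedCategory.standard

noncomputable section

namespace Groth.Lead.BddAdj

open Groth.L00 Groth.L29 Groth.L29.DC Groth.L10.ShriekLoc

variable {X Y X' Y' : Scheme.{u}}

/-- restriction to an open preserves bounds from above -/
theorem isLE_res (V : X.Opens) (K : DCoh.D X) (n : ℤ) (h : K.IsLE n) : ((Gen.res V).obj K).IsLE n := by
  rw [DerivedCategory.isLE_iff]
  intro i hi
  haveI := h
  exact ((Scheme.Modules.restrictFunctor V.ι).map_isZero (DerivedCategory.isZero_of_isLE K n i hi)).of_iso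
    (HDResIso V.ι K i)

/-- Tor independence passes to an open of the base change -/
theorem appLE_open (g : Y' ⟶ Y) (U : Y'.Opens) (U₀ : Y.Opens) (U₁ : (U : Scheme.{u}).Opens)
    (h : U₁ ≤ (U.ι ≫ g) ⁻¹ᵁ U₀) :
    ((U.ι ≫ g).appLE U₀ U₁ h : Γ(Y, U₀) ⟶ Γ(Y', U.ι ''ᵁ U₁)) =
      g.appLE U₀ (U.ι ''ᵁ U₁) (by rintro _ ⟨y, hy, rfl⟩; exact h hy) := by
  have e : U₁ ≤ U.ι ⁻¹ᵁ (U.ι ''ᵁ U₁) := fun x hx => ⟨x, hx, rfl⟩
  rw [← Scheme.Hom.appLE_comp_appLE U.ι g U₀ (U.ι ''ᵁ U₁) U₁ (by rintro _ ⟨y, hy, rfl⟩; exact h hy) e, Scheme.Opens.ι_appLE]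
  exact Scheme.Hom.appLE_map _ _ _

set_option maxHeartbeats 3200000 in
/-- the bound on objects coming from an affine open over an affine open -/
theorem exists_piece [CompactSpace X] [QuasiSeparatedSpace X] [CompactSpace Y] [QuasiSeparatedSpace Y]
    [CompactSpace X'] [QuasiSeparatedSpace X'] [CompactSpace Y'] [QuasiSeparatedSpace Y']
    {f : X ⟶ Y} {g : Y' ⟶ Y} {f' : X' ⟶ Y'} {g' : X' ⟶ X} (hsq : IsPullback g' f' f g)
    [DCoh.HasRpush f] [DCoh.HasRpush f']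
    (htor : ∀ (U : Y.Opens), IsAffineOpen U → ∀ (U' : Y'.Opens), IsAffineOpen U' → ∀ (hU' : U' ≤ g ⁻¹ᵁ U)
      (V : X.Opens), IsAffineOpen V → ∀ (hV : V ≤ f ⁻¹ᵁ U) (i : ℕ), 0 < i →
      Subsingleton (@DRing.Tor Γ(Y, U) _ i Γ(Y', U') Γ(X, V) _ (g.appLE U U' hU').hom.toModule _
        (f.appLE U V hV).hom.toModule))
    {hf : DCoh.RpushPreservesQCoh f} {hf' : DCoh.RpushPreservesQCoh f'}
    {a : DCoh.DQCoh Y ⥤ DCoh.DQCoh X} {a' : DCoh.DQCoh Y' ⥤ DCoh.DQCoh X'}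
    (adj : DCoh.RpushQ f hf ⊣ a) (adj' : DCoh.RpushQ f' hf' ⊣ a')
    (d : ℤ) (hbd : ∀ (K : DCoh.DQCoh Y) (n : ℤ), K.obj.IsLE n → (a.obj K).obj.IsLE (n + d))
    (U : Y'.Opens) (hU : IsAffineOpen U) (V : Y.Opens) (hV : IsAffineOpen V) (hUV : U ≤ g ⁻¹ᵁ V)
    (hq : DCoh.RpushPreservesQCoh U.ι) :
    ∃ c : ℤ, ∀ (M : DCoh.DQCoh (U : Scheme.{u})) (n : ℤ), M.obj.IsLE n →
      (a'.obj ((DCoh.RpushQ U.ι hq).obj M)).obj.IsLE (n + c) := by
  haveI := fun {A B : Scheme.{u}} (k : A ⟶ B) => RpushQC.hasRpush k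
  haveI := fun {A B : Scheme.{u}} (k : A ⟶ B) => KFlat.hasLpull k
  haveI : IsAffine (U : Scheme.{u}) := hU
  haveI : IsAffine (V : Scheme.{u}) := hV
  haveI : QuasiCompact f := inferInstance
  haveI : QuasiSeparated f := inferInstance
  haveI : QuasiCompact f' := inferInstance
  haveI : QuasiSeparated f' := inferInstance
  have hsq1 := (isPullback_morphismRestrict f' U).flip
  have hsq2 := hsq1.paste_horiz hsq
  haveI : QuasiCompact (f' ∣_ U) := IsZariskiLocalAtTarget.restrict ‹QuasiCompact f'› U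
  haveI : QuasiSeparated (f' ∣_ U) := IsZariskiLocalAtTarget.restrict ‹QuasiSeparated f'› U
  haveI : CompactSpace (f' ⁻¹ᵁ U : Scheme.{u}) := QuasiCompact.compactSpace_of_compactSpace (f' ∣_ U)
  haveI : QuasiSeparatedSpace (f' ⁻¹ᵁ U : Scheme.{u}) := quasiSeparatedSpace_of_quasiSeparated (f' ∣_ U)
  obtain ⟨aU, ⟨adjU⟩⟩ := ShriekIndep.exists_adj (f' ∣_ U)
  let j' := (f' ⁻¹ᵁ U).ι
  let h : (U : Scheme.{u}) ⟶ Y := U.ι ≫ g
  let k' : (f' ⁻¹ᵁ U : Scheme.{u}) ⟶ X := j' ≫ g'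
  have hL : ∀ {A B : Scheme.{u}} (j : A ⟶ B), Dual3.LpullPreservesQCoh j := fun j K hK => isQCohD_Lpull j hK
  let hj := isQCohD_push j'
  let hh := isQCohD_push h
  let hk := isQCohD_push k'
  have hBC1 : BC.BC hsq1.w := BC.BC_flat hsq1
  have hBC2 : BC.BC hsq2.w := BC.BC_of_torIndependent hsq2 fun U₀ hU₀ U₁ hU₁ hle V₀ hV₀ hV₀U i hi => by
    have e := htor U₀ hU₀ (U.ι ''ᵁ U₁) (hU₁.image_of_isOpenImmersion _)
      (by rintro _ ⟨y, hy, rfl⟩; exact hle hy) V₀ hV₀ hV₀U i hi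
    rw [← appLE_open g U U₀ U₁ hle] at e
    exact e
  have hx1 : ∀ M, IsIso (Dual3.xi adj' adjU (BCAdj.eQ hf' _ hq hj hsq1.w) M) := fun M =>
    BCAdj.Mate.isIso_xi adj' adjU _ (BCAdj.adjQ U.ι hq (hL _)) (BCAdj.adjQ j' hj (hL _))
      (BCAdj.isIso_bcQ (hf := hf') _ _ hBC1) M
  have hx2 : ∀ M, IsIso (Dual3.xi adj adjU (BCAdj.eQ hf _ hh hk hsq2.w) M) := fun M =>
    BCAdj.Mate.isIso_xi adj adjU _ (BCAdj.adjQ h hh (hL _)) (BCAdj.adjQ k' hk (hL _))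
      (BCAdj.isIso_bcQ (hf := hf) _ _ hBC2) M
  -- the affine factor
  let hU' : (U : Scheme.{u}) ⟶ (V : Scheme.{u}) := IsOpenImmersion.lift V.ι h (by
    rw [Scheme.Opens.range_ι]
    rintro _ ⟨y, rfl⟩
    exact hUV y.2)
  have hU'fac : hU' ≫ V.ι = h := IsOpenImmersion.lift_fac _ _ _
  have hsqV := (isPullback_morphismRestrict f V).flip
  let k := hsqV.lift k' ((f' ∣_ U) ≫ hU') (by rw [Category.assoc (f' ∣_ U) hU' V.ι, hU'fac]; exact hsq2.w)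
  have hkfac : k ≫ (f ⁻¹ᵁ V).ι = k' := hsqV.lift_fst _ _ _
  have hsq3 : IsPullback k (f' ∣_ U) (f ∣_ V) hU' := by
    refine IsPullback.of_right (h₁₂ := (f ⁻¹ᵁ V).ι) (v₁₃ := f) (h₂₂ := V.ι) ?_ (hsqV.lift_snd _ _ _) hsqV
    rw [hkfac, hU'fac]
    exact hsq2
  haveI : IsAffineHom hU' := inferInstance
  haveI : IsAffineHom k := MorphismProperty.of_isPullback hsq3.flip inferInstance
  obtain ⟨N₁, hN₁⟩ := Gen.exists_amp h
  obtain ⟨N₂, hN₂⟩ := Gen.exists_amp j'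
  refine ⟨(N₁ : ℤ) + d + N₂, fun M n hn => ?_⟩
  let t := fun (Z : Scheme.{u}) => DerivedCategory.TStructure.t (C := Z.Modules)
  haveI := hx1 M
  haveI := hx2 M
  have h2 : ((DCoh.Rpush k').obj (aU.obj M).obj).IsLE (n + N₁ + d) := by
    have e : (t X).IsLE (a.obj ((DCoh.RpushQ h hh).obj M)).obj (n + N₁ + d) := hbd _ _ (hN₁ M.obj M.property n hn)
    haveI : (t X).IsLE ((ObjectProperty.ι DCoh.IsQCohD).obj (a.obj ((DCoh.RpushQ h hh).obj M))) (n + N₁ + d) := e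
    exact (t X).isLE_of_iso ((ObjectProperty.ι DCoh.IsQCohD).mapIso
      (asIso (Dual3.xi adj adjU (BCAdj.eQ hf _ hh hk hsq2.w) M)).symm) _
  have h3 : (aU.obj M).obj.IsLE (n + N₁ + d) := by
    refine isLE_of_Rpush_affine k _ (aU.obj M).property _ ?_
    haveI : (t _).IsLE _ (n + N₁ + d) := isLE_res (f ⁻¹ᵁ V) _ _ h2
    exact (t _).isLE_of_iso ((Gen.res (f ⁻¹ᵁ V)).mapIso ((BC.cR hkfac).symm.app (aU.obj M).obj) ≪≫
      asIso ((Gen.adj (f ⁻¹ᵁ V)).counit.app _)) _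
  have h4 : (t X').IsLE ((DCoh.RpushQ j' hj).obj (aU.obj M)).obj (n + N₁ + d + N₂) :=
    hN₂ _ (aU.obj M).property _ h3
  haveI : (t X').IsLE ((ObjectProperty.ι DCoh.IsQCohD).obj ((DCoh.RpushQ j' hj).obj (aU.obj M))) (n + N₁ + d + N₂) := h4
  haveI : (t X').IsLE (a'.obj ((DCoh.RpushQ U.ι hq).obj M)).obj (n + N₁ + d + N₂) :=
    (t X').isLE_of_iso ((ObjectProperty.ι DCoh.IsQCohD).mapIso
      (asIso (Dual3.xi adj' adjU (BCAdj.eQ hf' _ hq hj hsq1.w) M))) _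
  exact (t X').isLE_of_le _ (n + N₁ + d + N₂) _ (by omega)

end Groth.Lead.BddAdj
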